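import Mathlib

/-! The subgroup generated by the derangements of a transitive permutation group. -/

set_option autoImplicit false

namespace Cfsg.Agent.Lib.Helper19

open MulAction

variable {G Ω : Type*} [Group G] [MulAction G Ω]

/-- the subgroup generated by derangements -/
abbrev derSub (G Ω : Type*) [Group G] [MulAction G Ω] : Subgroup G :=
  Subgroup.closure {g : G | ∀ ω : Ω, g • ω ≠ ω}

instance derSub_normal : (derSub G Ω).Normal := by
  constructor
  intro n hn g
  induction hn using Subgroup.closure_induction with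
  | mem x hx =>
    apply Subgroup.subset_closure
    intro ω h
    apply hx (g⁻¹ • ω)
    have := congrArg (fun z => g⁻¹ • z) h
    simpa [mul_smul] using this
  | one => simp
  | mul x y _ _ hx hy =>
    have : g * (x * y) * g⁻¹ = (g * x * g⁻¹) * (g * y * g⁻¹) := by group
    rw [this]; exact mul_mem hx hy
  | inv x _ hx =>
    have : g * x⁻¹ * g⁻¹ = (g * x * g⁻¹)⁻¹ := by group
    rw [this]; exact inv_mem hx

theorem burnside_nat (H X : Type*) [Group H] [MulAction H X] [Fintype H] [Finite X] :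
    ∑ g : H, Nat.card (fixedBy X g) = Nat.card (orbitRel.Quotient H X) * Nat.card H := by
  classical
  haveI : Fintype X := Fintype.ofFinite X
  haveI : Fintype (orbitRel.Quotient H X) := Fintype.ofFinite _
  have := sum_card_fixedBy_eq_card_orbits_mul_card_group H X
  simpa only [Nat.card_eq_fintype_card] using this

theorem burnside_subgroup (X : Type*) [MulAction G X] [Fintype G] [Finite X] (H : Subgroup G)
    [DecidablePred (· ∈ H)] :
    ∑ g ∈ Finset.univ.filter (· ∈ H), Nat.card (fixedBy X g) =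
      Nat.card (orbitRel.Quotient H X) * Nat.card H := by
  rw [← burnside_nat H X]
  rw [Finset.sum_subtype (Finset.univ.filter (· ∈ H)) (p := (· ∈ H)) (by simp)]
  rfl

theorem one_le_fixedBy_of_not_mem [Finite Ω] {g : G} (hg : g ∉ derSub G Ω) :
    1 ≤ Nat.card (fixedBy Ω g) := by
  by_contra h
  apply hg
  apply Subgroup.subset_closure
  intro ω hω
  apply h
  haveI : Nonempty (fixedBy Ω g) := ⟨⟨ω, hω⟩⟩
  exact Nat.one_le_iff_ne_zero.mpr (Nat.card_pos.ne')

theorem card_quotient_eq_one [Nonempty Ω] (ht : IsPretransitive G Ω) :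
    Nat.card (orbitRel.Quotient G Ω) = 1 := by
  obtain ⟨u⟩ := (pretransitive_iff_unique_quotient_of_nonempty G Ω).mp ht
  exact Nat.card_unique

theorem der_main [Finite G] [Finite Ω] [Nonempty Ω] (ht : IsPretransitive G Ω) :
    IsPretransitive (derSub G Ω) Ω ∧ ∀ g : G, g ∉ derSub G Ω → Nat.card (fixedBy Ω g) = 1 := by
  classical
  haveI : Fintype G := Fintype.ofFinite G
  set D := derSub G Ω with hD
  have h1 : ∑ g : G, Nat.card (fixedBy Ω g) = Nat.card G := by
    rw [burnside_nat, card_quotient_eq_one ht, one_mul]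
  have h2 := burnside_subgroup (G := G) Ω D
  have h3 := Finset.sum_filter_add_sum_filter_not Finset.univ (· ∈ D) (fun g : G => Nat.card (fixedBy Ω g))
  have h4 : ∑ g ∈ Finset.univ.filter (fun g : G => ¬ g ∈ D), 1 ≤
      ∑ g ∈ Finset.univ.filter (fun g : G => ¬ g ∈ D), Nat.card (fixedBy Ω g) := by
    apply Finset.sum_le_sum
    intro g hg
    exact one_le_fixedBy_of_not_mem (Finset.mem_filter.mp hg).2
  have h5 := Finset.sum_filter_add_sum_filter_not Finset.univ (· ∈ D) (fun _ : G => 1)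
  have h6 : ∑ g ∈ Finset.univ.filter (fun g : G => g ∈ D), 1 = Nat.card D := by
    rw [Finset.sum_const, smul_eq_mul, mul_one, Nat.card_eq_fintype_card, Fintype.card_subtype]
  have h7 : ∑ _g : G, 1 = Nat.card G := by
    rw [Finset.sum_const, smul_eq_mul, mul_one, Nat.card_eq_fintype_card, Finset.card_univ]
  have hDpos : 0 < Nat.card D := Nat.card_pos
  haveI : Nonempty (orbitRel.Quotient D Ω) := ⟨Quotient.mk _ (Classical.arbitrary Ω)⟩
  have hk : 0 < Nat.card (orbitRel.Quotient D Ω) := Nat.card_pos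
  have hk1 : Nat.card (orbitRel.Quotient D Ω) = 1 := by
    by_contra hne
    have : 2 ≤ Nat.card (orbitRel.Quotient D Ω) := by omega
    have : 2 * Nat.card D ≤ Nat.card (orbitRel.Quotient D Ω) * Nat.card D := Nat.mul_le_mul_right _ this
    omega
  constructor
  · rw [pretransitive_iff_subsingleton_quotient]
    exact (Nat.card_eq_one_iff_unique.mp hk1).1
  · rw [hk1, one_mul] at h2
    have h8 : ∑ g ∈ Finset.univ.filter (fun g : G => ¬ g ∈ D), 1 =
      ∑ g ∈ Finset.univ.filter (fun g : G => ¬ g ∈ D), Nat.card (fixedBy Ω g) := by omega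
    have h9 := (Finset.sum_eq_sum_iff_of_le (fun g hg =>
      one_le_fixedBy_of_not_mem (Finset.mem_filter.mp hg).2)).mp h8
    intro g hg
    exact (h9 g (Finset.mem_filter.mpr ⟨Finset.mem_univ _, hg⟩)).symm

/-- fixed points on pairs -/
def fixedByProdEquiv (g : G) : fixedBy (Ω × Ω) g ≃ fixedBy Ω g × fixedBy Ω g where
  toFun p := (⟨p.1.1, congrArg Prod.fst p.2⟩, ⟨p.1.2, congrArg Prod.snd p.2⟩)
  invFun q := ⟨(q.1.1, q.2.1), Prod.ext q.1.2 q.2.2⟩
  left_inv _ := rfl
  right_inv _ := rfl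

theorem card_fixedBy_prod (g : G) : Nat.card (fixedBy (Ω × Ω) g) = Nat.card (fixedBy Ω g) * Nat.card (fixedBy Ω g) := by
  rw [Nat.card_congr (fixedByProdEquiv g), Nat.card_prod]

theorem der_rank [Finite G] [Finite Ω] [Nonempty Ω] (ht : IsPretransitive G Ω) :
    Nat.card (orbitRel.Quotient (derSub G Ω) (Ω × Ω)) - 1 =
      (Nat.card (orbitRel.Quotient G (Ω × Ω)) - 1) * (derSub G Ω).index := by
  classical
  haveI : Fintype G := Fintype.ofFinite G
  obtain ⟨-, hfix⟩ := der_main ht
  set D := derSub G Ω with hD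
  have h1 := burnside_nat G (Ω × Ω)
  have h2 := burnside_subgroup (G := G) (Ω × Ω) D
  have h3 := Finset.sum_filter_add_sum_filter_not Finset.univ (· ∈ D) (fun g : G => Nat.card (fixedBy (Ω × Ω) g))
  have h4 : ∑ g ∈ Finset.univ.filter (fun g : G => ¬ g ∈ D), Nat.card (fixedBy (Ω × Ω) g) =
      ∑ g ∈ Finset.univ.filter (fun g : G => ¬ g ∈ D), 1 := by
    apply Finset.sum_congr rfl
    intro g hg
    rw [card_fixedBy_prod, hfix g (Finset.mem_filter.mp hg).2]
  have h5 := Finset.sum_filter_add_sum_filter_not Finset.univ (· ∈ D) (fun _ : G => 1)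
  have h6 : ∑ g ∈ Finset.univ.filter (fun g : G => g ∈ D), 1 = Nat.card D := by
    rw [Finset.sum_const, smul_eq_mul, mul_one, Nat.card_eq_fintype_card, Fintype.card_subtype]
  have h7 : ∑ _g : G, 1 = Nat.card G := by
    rw [Finset.sum_const, smul_eq_mul, mul_one, Nat.card_eq_fintype_card, Finset.card_univ]
  have hDpos : 0 < Nat.card D := Nat.card_pos
  haveI : Nonempty (orbitRel.Quotient D (Ω × Ω)) := ⟨Quotient.mk _ (Classical.arbitrary (Ω × Ω))⟩
  haveI : Nonempty (orbitRel.Quotient G (Ω × Ω)) := ⟨Quotient.mk _ (Classical.arbitrary (Ω × Ω))⟩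
  have hk : 0 < Nat.card (orbitRel.Quotient D (Ω × Ω)) := Nat.card_pos
  have hk' : 0 < Nat.card (orbitRel.Quotient G (Ω × Ω)) := Nat.card_pos
  have hidx := D.card_mul_index
  obtain ⟨a, ha⟩ : ∃ a, Nat.card (orbitRel.Quotient G (Ω × Ω)) = a + 1 := ⟨_, (Nat.succ_pred_eq_of_pos hk').symm⟩
  obtain ⟨b, hb⟩ : ∃ b, Nat.card (orbitRel.Quotient D (Ω × Ω)) = b + 1 := ⟨_, (Nat.succ_pred_eq_of_pos hk).symm⟩
  rw [ha, hb]
  simp only [Nat.add_sub_cancel]
  rw [ha] at h1
  rw [hb] at h2
  have key : (a + 1) * Nat.card G + Nat.card D = (b + 1) * Nat.card D + Nat.card G := by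
    omega
  rw [← hidx] at key
  have : b * Nat.card D = (a * D.index) * Nat.card D := by nlinarith
  exact Nat.eq_of_mul_eq_mul_right hDpos this

end Cfsg.Agent.Lib.Helper19
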