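import Mathlib
import Cfsg.Agent.Lib.Helper19.Derange

/-! Index of the subgroup generated by the derangements. -/

set_option autoImplicit false

namespace Cfsg.Agent.Lib.Helper19

open MulAction
open scoped Pointwise

theorem index_dvd_card_of_stabilizer_le {H X : Type*} [Group H] [MulAction H X] [Finite X] (K : Subgroup H)
    (h : ∀ x : X, stabilizer H x ≤ K) : K.index ∣ Nat.card X := by
  classical
  haveI : Fintype (orbitRel.Quotient H X) := Fintype.ofFinite _
  have e := selfEquivSigmaOrbits H X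
  rw [Nat.card_congr e, Nat.card_sigma]
  apply Finset.dvd_sum
  intro ω _
  rw [Nat.card_coe_set_eq, ← index_stabilizer]
  exact Subgroup.index_dvd_of_le (h _)

theorem index_dvd_ncard_of_stabilizer_le {H X : Type*} [Group H] [MulAction H X] [Finite X] (Y : Set X)
    (hY : ∀ (h : H), ∀ y ∈ Y, h • y ∈ Y) (K : Subgroup H) (h : ∀ y ∈ Y, stabilizer H y ≤ K) :
    K.index ∣ Y.ncard := by
  let P : SubMulAction H X := { carrier := Y, smul_mem' := fun c {x} hx => hY c x hx }
  have := index_dvd_card_of_stabilizer_le (H := H) (X := P) K (by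
    intro x
    rw [SubMulAction.stabilizer_of_subMul]
    exact h x.1 x.2)
  rwa [← Nat.card_coe_set_eq]

variable {G Ω : Type*} [Group G] [MulAction G Ω]

theorem mem_derSub_of_two_fixed [Finite G] [Finite Ω] (ht : IsPretransitive G Ω) {g : G} {α β : Ω}
    (hαβ : α ≠ β) (hα : g • α = α) (hβ : g • β = β) : g ∈ derSub G Ω := by
  haveI : Nonempty Ω := ⟨α⟩
  by_contra hg
  have h1 := (der_main ht).2 g hg
  haveI := (Nat.card_eq_one_iff_unique.mp h1).1
  have : (⟨α, hα⟩ : fixedBy Ω g) = ⟨β, hβ⟩ := Subsingleton.elim _ _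
  exact hαβ (congrArg Subtype.val this)

theorem stabilizer_sup_derSub [Finite G] [Finite Ω] (ht : IsPretransitive G Ω) (α : Ω) :
    stabilizer G α ⊔ derSub G Ω = ⊤ := by
  haveI : Nonempty Ω := ⟨α⟩
  haveI := (der_main ht).1
  rw [eq_top_iff]
  intro g _
  obtain ⟨d, hd⟩ := exists_smul_eq (derSub G Ω) α (g • α)
  have h1 : d.1⁻¹ * g ∈ stabilizer G α := by
    rw [mem_stabilizer_iff, mul_smul, ← hd]
    exact inv_smul_smul d.1 α
  have : g = d.1 * (d.1⁻¹ * g) := by group
  rw [this]
  exact mul_mem (Subgroup.mem_sup_right d.2) (Subgroup.mem_sup_left h1)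

theorem index_subgroupOf_stabilizer [Finite G] [Finite Ω] (ht : IsPretransitive G Ω) (α : Ω) :
    ((derSub G Ω).subgroupOf (stabilizer G α)).index = (derSub G Ω).index := by
  show (derSub G Ω).relIndex (stabilizer G α) = _
  rw [← Subgroup.relIndex_sup_right, stabilizer_sup_derSub ht, Subgroup.relIndex_top_right]

theorem stabilizer_le_subgroupOf [Finite G] [Finite Ω] (ht : IsPretransitive G Ω) {α y : Ω} (hy : y ≠ α) :
    stabilizer (stabilizer G α) y ≤ (derSub G Ω).subgroupOf (stabilizer G α) := by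
  intro s hs
  rw [Subgroup.mem_subgroupOf]
  exact mem_derSub_of_two_fixed ht hy.symm s.2 hs

theorem der_index_dvd [Finite G] [Finite Ω] (ht : IsPretransitive G Ω) (α : Ω) (Y : Set Ω) (hα : α ∉ Y)
    (hY : ∀ g : G, g • α = α → ∀ y ∈ Y, g • y ∈ Y) : (derSub G Ω).index ∣ Y.ncard := by
  rw [← index_subgroupOf_stabilizer ht α]
  apply index_dvd_ncard_of_stabilizer_le (H := stabilizer G α) Y (fun h y hy => hY h.1 h.2 y hy)
  intro y hy
  exact stabilizer_le_subgroupOf ht (fun h => hα (h ▸ hy))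

theorem ncard_compl_singleton [Finite Ω] (α : Ω) : ({α}ᶜ : Set Ω).ncard = Nat.card Ω - 1 := by
  rw [Set.ncard_compl, Set.ncard_singleton]

theorem der_index_dvd_pred [Finite G] [Finite Ω] (ht : IsPretransitive G Ω) (α : Ω) :
    (derSub G Ω).index ∣ Nat.card Ω - 1 := by
  rw [← ncard_compl_singleton α]
  apply der_index_dvd ht α _ (by simp)
  intro g hg y hy h
  apply hy
  have h' : g • y = g • α := by rw [hg]; exact h
  exact smul_left_cancel g h'

theorem der_primePow [Finite G] [Finite Ω] [FaithfulSMul G Ω] (ht : IsPretransitive G Ω)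
    (hΩ : 2 ≤ Nat.card Ω) (hidx : (derSub G Ω).index = Nat.card Ω - 1) : IsPrimePow (Nat.card Ω) := by
  classical
  haveI : Nonempty Ω := (Nat.card_pos_iff.mp (by omega)).1
  obtain ⟨α⟩ := ‹Nonempty Ω›
  haveI : Nonempty Ω := ⟨α⟩
  haveI hDt := (der_main ht).1
  set D := derSub G Ω with hD
  -- orbits of the stabilizer
  have horb : ∀ β : Ω, β ≠ α → orbit (stabilizer G α) β = {α}ᶜ := by
    intro β hβ
    have hsub : orbit (stabilizer G α) β ⊆ {α}ᶜ := by
      rintro _ ⟨s, rfl⟩ h
      apply hβ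
      have h' : s.1 • β = s.1 • α := by rw [s.2]; exact h
      exact smul_left_cancel s.1 h'
    apply Set.eq_of_subset_of_ncard_le hsub _ (Set.toFinite _)
    have h1 : D.index ∣ (orbit (stabilizer G α) β).ncard := by
      apply der_index_dvd ht α _ (fun h => hsub h rfl)
      rintro g hg _ ⟨s, rfl⟩
      exact ⟨⟨g, hg⟩ * s, mul_smul (⟨g, hg⟩ : stabilizer G α) s β⟩
    have h2 : 0 < (orbit (stabilizer G α) β).ncard :=
      (Set.ncard_pos (Set.toFinite _)).mpr ⟨β, mem_orbit_self β⟩
    rw [ncard_compl_singleton, ← hidx]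
    exact Nat.le_of_dvd h2 h1
  -- point stabilizers in D are trivial
  have hreg : ∀ d : G, d ∈ D → d • α = α → d = 1 := by
    intro d hd hdα
    apply FaithfulSMul.eq_of_smul_eq_smul (α := Ω)
    intro β
    rw [one_smul]
    by_cases hβ : β = α
    · rw [hβ, hdα]
    have h1 : (stabilizer (stabilizer G α) β).index = (D.subgroupOf (stabilizer G α)).index := by
      rw [index_stabilizer, horb β hβ, ncard_compl_singleton, index_subgroupOf_stabilizer ht α, hidx]
    have h2 := Subgroup.relIndex_mul_index (stabilizer_le_subgroupOf ht hβ)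
    rw [h1] at h2
    have h3 : (D.subgroupOf (stabilizer G α)).index ≠ 0 := Subgroup.index_ne_zero_of_finite
    have h4 : (stabilizer (stabilizer G α) β).relIndex (D.subgroupOf (stabilizer G α)) = 1 := by
      have : (stabilizer (stabilizer G α) β).relIndex (D.subgroupOf (stabilizer G α)) *
          (D.subgroupOf (stabilizer G α)).index = 1 * (D.subgroupOf (stabilizer G α)).index := by
        rw [h2, one_mul]
      exact Nat.eq_of_mul_eq_mul_right (Nat.pos_of_ne_zero h3) this
    have h5 := Subgroup.relIndex_eq_one.mp h4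
    have h6 : (⟨d, hdα⟩ : stabilizer G α) ∈ D.subgroupOf (stabilizer G α) := by
      rw [Subgroup.mem_subgroupOf]; exact hd
    exact h5 h6
  -- D is regular
  have hbij : Function.Bijective (fun d : D => d • α) := by
    constructor
    · intro a b hab
      have h1 : (a.1⁻¹ * b.1) • α = α := by
        rw [mul_smul]
        have : b.1 • α = a.1 • α := hab.symm
        rw [this, inv_smul_smul]
      have h2 := hreg _ (mul_mem (inv_mem a.2) b.2) h1
      apply Subtype.ext
      exact (inv_mul_eq_one.mp h2)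
    · intro β
      exact exists_smul_eq D α β
  have hcard : Nat.card D = Nat.card Ω := Nat.card_congr (Equiv.ofBijective _ hbij)
  -- all non-identity elements of D are conjugate
  have hconj : ∀ d₁ d₂ : G, d₁ ∈ D → d₂ ∈ D → d₁ ≠ 1 → d₂ ≠ 1 → orderOf d₁ = orderOf d₂ := by
    intro d₁ d₂ h1 h2 h1' h2'
    have e1 : d₁ • α ≠ α := fun h => h1' (hreg d₁ h1 h)
    have e2 : d₂ • α ≠ α := fun h => h2' (hreg d₂ h2 h)
    have : d₂ • α ∈ orbit (stabilizer G α) (d₁ • α) := by
      rw [horb _ e1]; exact e2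
    obtain ⟨s, hs⟩ := this
    have hs' : s.1 • d₁ • α = d₂ • α := hs
    have h3 : (d₂⁻¹ * (s.1 * d₁ * s.1⁻¹)) • α = α := by
      have hsi : s.1⁻¹ • α = α := by
        have := s.2
        rw [mem_stabilizer_iff] at this
        rw [inv_smul_eq_iff, this]
      rw [mul_smul, mul_smul, mul_smul, hsi, hs', inv_smul_smul]
    have h4 := hreg _ (mul_mem (inv_mem h2) (derSub_normal.conj_mem d₁ h1 s.1)) h3
    have h5 : d₂ = s.1 * d₁ * s.1⁻¹ := inv_mul_eq_one.mp h4
    have h6 : SemiconjBy s.1 d₁ d₂ := by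
      rw [h5]; unfold SemiconjBy; group
    exact h6.orderOf_eq
  have hne : Nat.card D ≠ 1 := by omega
  obtain ⟨p, hp, hpd⟩ := Nat.exists_prime_and_dvd hne
  haveI := Fact.mk hp
  obtain ⟨x, hx⟩ := exists_prime_orderOf_dvd_card' p hpd
  have hx1 : x.1 ≠ 1 := by
    intro h
    have : x = 1 := Subtype.ext h
    rw [this, orderOf_one] at hx
    exact hp.one_lt.ne hx
  have hpg : IsPGroup p D := by
    intro d
    refine ⟨1, ?_⟩
    rw [pow_one]
    by_cases hd : d.1 = 1
    · have : d = 1 := Subtype.ext hd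
      rw [this, one_pow]
    · have := hconj d.1 x.1 d.2 x.2 hd hx1
      rw [Subgroup.orderOf_coe, Subgroup.orderOf_coe, hx] at this
      rw [← this, pow_orderOf_eq_one]
  obtain ⟨k, hk⟩ := hpg.exists_card_eq
  rw [isPrimePow_nat_iff]
  refine ⟨p, k, hp, ?_, by rw [← hk, hcard]⟩
  rcases Nat.eq_zero_or_pos k with h0 | h0
  · rw [h0, pow_zero] at hk; exact absurd hk hne
  · exact h0

theorem der_imprimitive [Finite G] [Finite Ω] (ht : IsPretransitive G Ω) (himp : ¬ IsPreprimitive G Ω) :
    ((derSub G Ω).index : ℝ) ≤ Real.sqrt (Nat.card Ω) - 1 := by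
  classical
  have hex : ∃ B : Set Ω, IsBlock G B ∧ ¬ IsTrivialBlock B := by
    by_contra h
    push Not at h
    exact himp { toIsPretransitive := ht, isTrivialBlock_of_isBlock := fun {B} hB => h B hB }
  obtain ⟨B, hB, hBt⟩ := hex
  unfold IsTrivialBlock at hBt
  push Not at hBt
  obtain ⟨hB1, hB2⟩ := hBt
  obtain ⟨α, hα⟩ := hB1.nonempty
  set m := (derSub G Ω).index with hm
  have hmul := hB.ncard_block_mul_ncard_orbit_eq ⟨α, hα⟩
  set b := B.ncard with hb
  set a := (orbit G B).ncard with ha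
  have hn : 0 < Nat.card Ω := by
    haveI : Nonempty Ω := ⟨α⟩
    exact Nat.card_pos
  have hb2 : 2 ≤ b := by
    by_contra h
    apply Set.not_subsingleton_iff.mpr hB1
    have : b ≤ 1 := by omega
    exact Set.ncard_le_one_iff_subsingleton.mp this
  have ha2 : 2 ≤ a := by
    by_contra h
    have h1 : a = 1 := by
      rcases Nat.eq_zero_or_pos a with h0 | h0
      · rw [h0, mul_zero] at hmul; omega
      · omega
    rw [h1, mul_one] at hmul
    apply hB2
    apply Set.eq_of_subset_of_ncard_le (Set.subset_univ _) _ (Set.toFinite _)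
    rw [Set.ncard_univ, ← hmul]
  have h1 : m ∣ b - 1 := by
    rw [hb, ← Set.ncard_sdiff_singleton_of_mem hα]
    apply der_index_dvd ht α _ (by simp)
    intro g hg y hy
    have hgB : g • B = B := (isBlock_iff_smul_eq_of_mem.mp hB) hα (by rw [hg]; exact hα)
    refine ⟨?_, ?_⟩
    · rw [← hgB]; exact Set.smul_mem_smul_set hy.1
    · intro h
      apply hy.2
      have h' : g • y = g • α := by rw [hg]; exact h
      exact smul_left_cancel g h'
  have h2 : m ∣ Nat.card Ω - 1 := der_index_dvd_pred ht α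
  have h3 : m ∣ a - 1 := by
    have e : Nat.card Ω - 1 = (b - 1) * a + (a - 1) := by
      rw [← hmul]
      obtain ⟨b', hb'⟩ : ∃ b', b = b' + 1 := ⟨b - 1, by omega⟩
      obtain ⟨a', ha'⟩ : ∃ a', a = a' + 1 := ⟨a - 1, by omega⟩
      rw [hb', ha']
      simp only [Nat.add_sub_cancel]
      have : (b' + 1) * (a' + 1) = b' * (a' + 1) + a' + 1 := by ring
      omega
    rw [e] at h2
    exact (Nat.dvd_add_right (Dvd.dvd.mul_right h1 a)).mp h2
  have h4 : m + 1 ≤ b := by
    have := Nat.le_of_dvd (by omega) h1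
    omega
  have h5 : m + 1 ≤ a := by
    have := Nat.le_of_dvd (by omega) h3
    omega
  have h6 : (m + 1) * (m + 1) ≤ Nat.card Ω := by
    rw [← hmul]; exact Nat.mul_le_mul h4 h5
  have h7 : ((m : ℝ) + 1) ≤ Real.sqrt (Nat.card Ω) := by
    apply Real.le_sqrt_of_sq_le
    have : (((m + 1) * (m + 1) : ℕ) : ℝ) ≤ (Nat.card Ω : ℝ) := by exact_mod_cast h6
    push_cast at this
    nlinarith
  linarith

end Cfsg.Agent.Lib.Helper19
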