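import Mathlib
import Cfsg.Agent.Lib.Helper13.CardSup

/-! Orbit lengths of subgroups as relative indices. -/

set_option autoImplicit false

namespace Cfsg.Agent.Lib.Helper19

open MulAction

variable {G V : Type*} [Group G] [MulAction G V]

theorem card_orbit_subgroup (X : Subgroup G) (v : V) :
    Nat.card {u : V | ∃ x ∈ X, x • v = u} = (stabilizer G v).relIndex X := by
  have h1 : {u : V | ∃ x ∈ X, x • v = u} = orbit X v := by
    ext u
    constructor
    · rintro ⟨x, hx, rfl⟩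
      exact ⟨⟨x, hx⟩, rfl⟩
    · rintro ⟨⟨x, hx⟩, rfl⟩
      exact ⟨x, hx, rfl⟩
  have h2 : stabilizer X v = (stabilizer G v).subgroupOf X := by
    ext x
    rfl
  rw [h1, Nat.card_coe_set_eq, ← index_stabilizer, h2]
  rfl

theorem relIndex_mul_card_inf (S X : Subgroup G) :
    S.relIndex X * Nat.card (S ⊓ X : Subgroup G) = Nat.card X := by
  rw [← Subgroup.inf_relIndex_right]
  exact Cfsg.Agent.Lib.Helper13.relIndex_mul_card' inf_le_right

/-- orbit lengths of a normal subgroup divide the orbit lengths of the group -/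
theorem relIndex_dvd_of_normalizer [Finite G] (S K H : Subgroup G) (hKH : K ≤ H)
    (hn : H ≤ Subgroup.normalizer (K : Set G)) : S.relIndex K ∣ S.relIndex H := by
  have h1 := Cfsg.Agent.Lib.Helper13.card_sup_mul_card_inf (S ⊓ H) K (inf_le_right.trans hn)
  have h2 : (S ⊓ H ⊓ K : Subgroup G) = S ⊓ K := by
    rw [inf_assoc, inf_eq_right.mpr hKH]
  rw [h2] at h1
  obtain ⟨c, hc⟩ := Subgroup.card_dvd_of_le (show (S ⊓ H ⊔ K : Subgroup G) ≤ H from sup_le inf_le_right hKH)
  have h3 := relIndex_mul_card_inf S K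
  have h4 := relIndex_mul_card_inf S H
  refine ⟨c, ?_⟩
  have hpos1 : 0 < Nat.card (S ⊓ K : Subgroup G) := Nat.card_pos
  have hpos2 : 0 < Nat.card (S ⊓ H : Subgroup G) := Nat.card_pos
  have : S.relIndex H * (Nat.card (S ⊓ H : Subgroup G) * Nat.card (S ⊓ K : Subgroup G)) =
      S.relIndex K * c * (Nat.card (S ⊓ H : Subgroup G) * Nat.card (S ⊓ K : Subgroup G)) := by
    calc S.relIndex H * (Nat.card (S ⊓ H : Subgroup G) * Nat.card (S ⊓ K : Subgroup G))
        = Nat.card H * Nat.card (S ⊓ K : Subgroup G) := by rw [← h4]; ring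
      _ = Nat.card (S ⊓ H ⊔ K : Subgroup G) * Nat.card (S ⊓ K : Subgroup G) * c := by rw [hc]; ring
      _ = Nat.card (S ⊓ H : Subgroup G) * Nat.card K * c := by rw [h1]
      _ = _ := by rw [← h3]; ring
  exact Nat.eq_of_mul_eq_mul_right (Nat.mul_pos hpos2 hpos1) this

/-- orbit lengths of `N ⊔ H` divide `|N|` times the orbit lengths of `H` -/
theorem relIndex_sup_dvd [Finite G] (S N H : Subgroup G)
    (hn : H ≤ Subgroup.normalizer (N : Set G)) : S.relIndex (N ⊔ H) ∣ Nat.card N * S.relIndex H := by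
  have h1 := Cfsg.Agent.Lib.Helper13.card_sup_mul_card_inf H N hn
  rw [sup_comm] at h1
  have h3 := relIndex_mul_card_inf S (N ⊔ H)
  have h4 := relIndex_mul_card_inf S H
  obtain ⟨m, hm⟩ := Subgroup.card_dvd_of_le
    (show (S ⊓ H : Subgroup G) ≤ S ⊓ (N ⊔ H) from inf_le_inf_left S le_sup_right)
  refine ⟨m * Nat.card (H ⊓ N : Subgroup G), ?_⟩
  have hpos2 : 0 < Nat.card (S ⊓ H : Subgroup G) := Nat.card_pos
  have : Nat.card N * S.relIndex H * Nat.card (S ⊓ H : Subgroup G) =
      S.relIndex (N ⊔ H) * (m * Nat.card (H ⊓ N : Subgroup G)) * Nat.card (S ⊓ H : Subgroup G) := by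
    calc Nat.card N * S.relIndex H * Nat.card (S ⊓ H : Subgroup G)
        = Nat.card H * Nat.card N := by rw [← h4]; ring
      _ = Nat.card (N ⊔ H : Subgroup G) * Nat.card (H ⊓ N : Subgroup G) := h1.symm
      _ = _ := by rw [← h3, hm]; ring
  exact Nat.eq_of_mul_eq_mul_right hpos2 this

end Cfsg.Agent.Lib.Helper19
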