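import Mathlib
import Cfsg.Agent.Lib.Helper19.OrbCard

/-! Manning's theorem: in an extremely primitive group the point stabilizer is faithful on
each of its nontrivial orbits. -/

set_option autoImplicit false

namespace Cfsg.Agent.Lib.Helper19

open MulAction
open scoped Pointwise

section
variable {G Ω : Type*} [Group G] [MulAction G Ω]

theorem eq_bot_of_conj_mem [Finite G] [FaithfulSMul G Ω] (hprim : IsPreprimitive G Ω) (α : Ω) (K : Subgroup G)
    (hK : K ≤ stabilizer G α) (hn : stabilizer G α ≤ Subgroup.normalizer (K : Set G))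
    (x : G) (hx : x • α ≠ α) (hxK : ∀ k ∈ K, x * k * x⁻¹ ∈ K) : K = ⊥ := by
  have : Nontrivial Ω := ⟨⟨x • α, α, hx⟩⟩
  have hco := IsPreprimitive.isCoatom_stabilizer_of_isPreprimitive (G := G) α
  have hxn : x ∈ Subgroup.normalizer (K : Set G) := Subgroup.mem_normalizer_fintype hxK
  have htop : Subgroup.normalizer (K : Set G) = ⊤ := by
    rcases hco.le_iff.mp hn with h | h
    · exact h
    · exfalso
      rw [h] at hxn
      exact hx hxn
  rw [eq_bot_iff]
  intro k hk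
  rw [Subgroup.mem_bot]
  apply FaithfulSMul.eq_of_smul_eq_smul (α := Ω)
  intro γ
  obtain ⟨g, rfl⟩ := exists_smul_eq G α γ
  have hg : g⁻¹ ∈ Subgroup.normalizer (K : Set G) := by rw [htop]; trivial
  have h1 := (Subgroup.mem_normalizer_iff.mp hg k).mp hk
  have h2 := hK h1
  rw [mem_stabilizer_iff, inv_inv, mul_smul, mul_smul, inv_smul_eq_iff] at h2
  rw [one_smul, h2]

theorem card_stabilizer_eq [IsPretransitive G Ω] (x y : Ω) :
    Nat.card (stabilizer G x) = Nat.card (stabilizer G y) := by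
  obtain ⟨g, rfl⟩ := exists_smul_eq G x y
  rw [stabilizer_smul_eq_stabilizer_map_conj]
  exact (Subgroup.card_map_of_injective (MulAut.conj g).injective).symm

theorem card_paired [Finite G] [IsPretransitive G Ω] (x y : Ω) :
    Nat.card {u : Ω | ∃ s ∈ stabilizer G x, s • y = u} = Nat.card {u : Ω | ∃ s ∈ stabilizer G y, s • x = u} := by
  rw [card_orbit_subgroup, card_orbit_subgroup]
  have h1 := relIndex_mul_card_inf (stabilizer G y) (stabilizer G x)
  have h2 := relIndex_mul_card_inf (stabilizer G x) (stabilizer G y)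
  rw [inf_comm] at h2
  rw [card_stabilizer_eq x y, ← h2] at h1
  exact Nat.eq_of_mul_eq_mul_right Nat.card_pos h1

theorem card_orbit_conj (g : G) (x y : Ω) :
    Nat.card {u : Ω | ∃ s ∈ stabilizer G (g • x), s • (g • y) = u} =
      Nat.card {u : Ω | ∃ s ∈ stabilizer G x, s • y = u} := by
  have : {u : Ω | ∃ s ∈ stabilizer G (g • x), s • (g • y) = u} =
      (fun u => g • u) '' {u : Ω | ∃ s ∈ stabilizer G x, s • y = u} := by
    ext u
    constructor
    · rintro ⟨s, hs, rfl⟩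
      refine ⟨(g⁻¹ * s * g) • y, ⟨g⁻¹ * s * g, ?_, rfl⟩, ?_⟩
      · rw [mem_stabilizer_iff] at hs ⊢
        rw [mul_smul, mul_smul, hs, inv_smul_smul]
      · simp [mul_smul]
    · rintro ⟨_, ⟨s, hs, rfl⟩, rfl⟩
      refine ⟨g * s * g⁻¹, ?_, ?_⟩
      · rw [mem_stabilizer_iff] at hs ⊢
        rw [mul_smul, mul_smul, inv_smul_smul, hs]
      · simp [mul_smul]
  rw [this]
  exact Nat.card_image_of_injective (MulAction.injective g) _

end

theorem manning {G : Type*} [Group G] [Finite G] {Ω : Type*} [Finite Ω] [MulAction G Ω] [FaithfulSMul G Ω]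
    (hprim : IsPreprimitive G Ω) (hH : ∀ α : Ω, stabilizer G α ≠ ⊥)
    (hep : ∀ (α ω : Ω), IsPreprimitive (stabilizer G α) (orbit (stabilizer G α) ω))
    (α ω : Ω) (hω : ω ≠ α) (h : G) (hα : h • α = α)
    (hfix : ∀ a ∈ stabilizer G α, h • a • ω = a • ω) : h = 1 := by
  by_contra hne
  let K : Subgroup G :=
    { carrier := {k | k • α = α ∧ ∀ a ∈ stabilizer G α, k • a • ω = a • ω}
      one_mem' := ⟨one_smul _ _, fun a _ => one_smul _ _⟩
      mul_mem' := by
        rintro k l ⟨hk1, hk2⟩ ⟨hl1, hl2⟩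
        refine ⟨by rw [mul_smul, hl1, hk1], fun a ha => by rw [mul_smul, hl2 a ha, hk2 a ha]⟩
      inv_mem' := by
        rintro k ⟨hk1, hk2⟩
        refine ⟨by rw [inv_smul_eq_iff, hk1], fun a ha => by rw [inv_smul_eq_iff, hk2 a ha]⟩ }
  have hKmem : ∀ k, k ∈ K ↔ (k • α = α ∧ ∀ a ∈ stabilizer G α, k • a • ω = a • ω) := fun k => Iff.rfl
  have hKA : K ≤ stabilizer G α := fun k hk => hk.1
  have hAn : stabilizer G α ≤ Subgroup.normalizer (K : Set G) := by
    intro b hb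
    apply Subgroup.mem_normalizer_fintype
    intro k hk
    have hb' : b • α = α := hb
    have hbi : b⁻¹ • α = α := by rw [inv_smul_eq_iff, hb']
    refine ⟨by rw [mul_smul, mul_smul, hbi, hk.1, hb'], fun a ha => ?_⟩
    have h1 : b⁻¹ * a ∈ stabilizer G α := mul_mem (inv_mem hb) ha
    have h2 := hk.2 _ h1
    rw [mul_smul, mul_smul, ← mul_smul b⁻¹ a, h2, mul_smul, smul_inv_smul]
  have hKne : K ≠ ⊥ := by
    intro hb
    have : h ∈ K := ⟨hα, hfix⟩
    rw [hb, Subgroup.mem_bot] at this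
    exact hne this
  obtain ⟨g₀, hg₀⟩ := exists_smul_eq G α ω
  -- Step 1
  have hstep1 : ∃ k₀ ∈ K, ∃ a₁ ∈ stabilizer G α, k₀ • g₀ • a₁ • ω ≠ g₀ • a₁ • ω := by
    by_contra hcon
    push Not at hcon
    apply hKne
    apply eq_bot_of_conj_mem hprim α K hKA hAn g₀⁻¹
    · intro h1
      rw [inv_smul_eq_iff, hg₀] at h1
      exact hω h1.symm
    · intro k hk
      have hkω : k • ω = ω := by simpa using hk.2 1 (one_mem _)
      refine ⟨?_, fun a ha => ?_⟩
      · rw [inv_inv, mul_smul, mul_smul, hg₀, hkω, inv_smul_eq_iff, hg₀]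
      · rw [inv_inv, mul_smul, mul_smul, hcon k hk a ha, inv_smul_smul]
  obtain ⟨k₀, hk₀, a₁, ha₁, hmove⟩ := hstep1
  obtain ⟨g, hg⟩ : ∃ g : G, g = g₀ * a₁ := ⟨_, rfl⟩
  have hgα : g • α = ω := by
    rw [hg, mul_smul, show a₁ • α = α from ha₁, hg₀]
  obtain ⟨δ, hδ⟩ : ∃ δ : Ω, δ = g • ω := ⟨_, rfl⟩
  have hmove' : k₀ • δ ≠ δ := by
    rw [hδ, hg, mul_smul]; exact hmove
  have hδα : δ ≠ α := by
    intro h1
    rw [h1] at hmove'
    exact hmove' hk₀.1
  -- Step 2
  have hstep2 : ∀ a ∈ stabilizer G α, ∃ k ∈ K, k • δ = a • δ := by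
    intro a ha
    haveI := hep α δ
    haveI : (K.subgroupOf (stabilizer G α)).Normal :=
      (Subgroup.normal_subgroupOf_iff_le_normalizer hKA).mpr hAn
    have hnf : fixedPoints (K.subgroupOf (stabilizer G α)) (orbit (stabilizer G α) δ) ≠ Set.univ := by
      intro h1
      have h2 : (⟨δ, mem_orbit_self δ⟩ : orbit (stabilizer G α) δ) ∈
          fixedPoints (K.subgroupOf (stabilizer G α)) (orbit (stabilizer G α) δ) := by
        rw [h1]; trivial
      have h3 := h2 ⟨⟨k₀, hKA hk₀⟩, hk₀⟩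
      exact hmove' (congrArg Subtype.val h3)
    haveI := IsQuasiPreprimitive.isPretransitive_of_normal
      (G := stabilizer G α) (X := orbit (stabilizer G α) δ) hnf
    obtain ⟨k, hk⟩ := exists_smul_eq (K.subgroupOf (stabilizer G α))
      (⟨δ, mem_orbit_self δ⟩ : orbit (stabilizer G α) δ)
      ⟨a • δ, ⟨⟨a, ha⟩, rfl⟩⟩
    exact ⟨k.1.1, k.2, congrArg Subtype.val hk⟩
  -- Step 3
  have hstep3 : ∀ a ∈ stabilizer G α, ∃ a' ∈ stabilizer G α, a • g • ω = g • a' • ω := by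
    intro a ha
    obtain ⟨k, hk, hkδ⟩ := hstep2 a ha
    have hkω : k • ω = ω := by simpa using hk.2 1 (one_mem _)
    refine ⟨g⁻¹ * k * g, ?_, ?_⟩
    · rw [mem_stabilizer_iff, mul_smul, mul_smul, hgα, hkω, inv_smul_eq_iff, hgα]
    · rw [← hδ, ← hkδ, mul_smul, mul_smul, smul_inv_smul, hδ]
  -- Step 4
  have hsub : {u : Ω | ∃ s ∈ stabilizer G α, s • ω = u} ⊆ {u : Ω | ∃ s ∈ stabilizer G δ, s • ω = u} := by
    rintro _ ⟨a, ha, rfl⟩
    obtain ⟨a', ha', h1⟩ := hstep3 a⁻¹ (inv_mem ha)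
    rw [inv_smul_eq_iff] at h1
    refine ⟨a * g * a' * g⁻¹, ?_, ?_⟩
    · rw [mem_stabilizer_iff, hδ, mul_smul, inv_smul_smul, mul_smul, mul_smul, ← h1]
    · rw [mul_smul, ← hgα, inv_smul_smul, mul_smul, mul_smul, show a' • α = α from ha']
  have hcard : Nat.card {u : Ω | ∃ s ∈ stabilizer G δ, s • ω = u} =
      Nat.card {u : Ω | ∃ s ∈ stabilizer G α, s • ω = u} := by
    have h1 := card_orbit_conj g ω α
    rw [hgα] at h1
    rw [hδ, h1, card_paired]
  have heq : {u : Ω | ∃ s ∈ stabilizer G α, s • ω = u} = {u : Ω | ∃ s ∈ stabilizer G δ, s • ω = u} := by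
    apply Set.eq_of_subset_of_ncard_le hsub _ (Set.toFinite _)
    rw [← Nat.card_coe_set_eq, ← Nat.card_coe_set_eq, hcard]
  set Δ : Set Ω := {u : Ω | ∃ s ∈ stabilizer G α, s • ω = u} with hΔ
  have hAS : stabilizer G α ≤ stabilizer G Δ := by
    intro b hb
    rw [mem_stabilizer_set_iff_smul_set_subset (Set.toFinite _)]
    rintro _ ⟨_, ⟨s, hs, rfl⟩, rfl⟩
    exact ⟨b * s, mul_mem hb hs, mul_smul _ _ _⟩
  have hDS : stabilizer G δ ≤ stabilizer G Δ := by
    intro b hb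
    rw [mem_stabilizer_set_iff_smul_set_subset (Set.toFinite _)]
    rw [heq]
    rintro _ ⟨_, ⟨s, hs, rfl⟩, rfl⟩
    exact ⟨b * s, mul_mem hb hs, mul_smul _ _ _⟩
  have hDA : ¬ stabilizer G δ ≤ stabilizer G α := by
    intro hle
    obtain ⟨x₁, hx₁⟩ := exists_smul_eq G α δ
    apply hH α
    apply eq_bot_of_conj_mem hprim α _ le_rfl Subgroup.le_normalizer x₁
    · rw [hx₁]; exact hδα
    · intro k hk
      apply hle
      rw [mem_stabilizer_iff, ← hx₁, mul_smul, inv_smul_smul, mul_smul, show k • α = α from hk]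
  have : Nontrivial Ω := ⟨⟨ω, α, hω⟩⟩
  have hco := IsPreprimitive.isCoatom_stabilizer_of_isPreprimitive (G := G) α
  have htop : stabilizer G Δ = ⊤ := by
    rcases hco.le_iff.mp hAS with h1 | h1
    · exact h1
    · exfalso
      rw [h1] at hDS
      exact hDA hDS
  have h1 : g₀⁻¹ ∈ stabilizer G Δ := by rw [htop]; trivial
  have h2 : g₀⁻¹ • ω ∈ g₀⁻¹ • Δ := Set.smul_mem_smul_set ⟨1, one_mem _, one_smul _ _⟩
  rw [mem_stabilizer_iff.mp h1, ← hg₀, inv_smul_smul] at h2
  obtain ⟨s, hs, hsα⟩ := h2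
  apply hω
  have h3 : ω = s⁻¹ • α := by rw [← hsα, inv_smul_smul]
  rw [h3, inv_smul_eq_iff]
  exact (show s • α = α from hs).symm

end Cfsg.Agent.Lib.Helper19
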