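import Mathlib
import Cfsg.Agent.Lib.Helper19.FrobFixed

/-! Three primes in a normal series are not pairwise non-adjacent in the prime graph. -/

set_option autoImplicit false

namespace Cfsg.Agent.Lib.Helper19

theorem three_primes_normal {G : Type*} [Group G] [Finite G] (P M : Subgroup G) [P.Normal] [M.Normal]
    (p q r : ℕ) (hp : p.Prime) (hq : q.Prime) (hr : r.Prime) (hpq : p ≠ q) (hpr : p ≠ r) (hqr : q ≠ r)
    (hP : IsPGroup p P) (hP1 : P ≠ ⊥) (hqM : q ∣ Nat.card M) (hrG : r ∣ M.index) :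
    (∃ x : G, orderOf x = p * q) ∨ (∃ x : G, orderOf x = p * r) ∨ (∃ x : G, orderOf x = q * r) := by
  classical
  by_contra hcon
  push Not at hcon
  obtain ⟨h1, h2, h3⟩ := hcon
  haveI := Fact.mk hp
  haveI := Fact.mk hq
  haveI := Fact.mk hr
  let V : Subgroup G := (Subgroup.center P).map P.subtype
  haveI hVn : V.Normal := ConjAct.normal_of_characteristic_of_normal
  have hVcomm : ∀ a b : V, a * b = b * a := by
    rintro ⟨_, a, ha, rfl⟩ ⟨_, b, hb, rfl⟩
    apply Subtype.ext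
    show P.subtype a * P.subtype b = P.subtype b * P.subtype a
    rw [← map_mul, ← map_mul, (Subgroup.mem_center_iff.mp ha) b]
  have hVp : ∀ v : V, ∃ k, v.1 ^ (p ^ k) = 1 := by
    rintro ⟨_, a, ha, rfl⟩
    obtain ⟨k, hk⟩ := hP a
    exact ⟨k, by rw [← map_pow, hk, map_one]⟩
  letI : CommGroup V := { (inferInstance : Group V) with mul_comm := hVcomm }
  -- Sylow q-subgroup of M and Frattini
  obtain ⟨Q⟩ : Nonempty (Sylow q M) := inferInstance
  set Q' : Subgroup G := (Q : Subgroup M).map M.subtype with hQ'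
  have hfr : Subgroup.normalizer (Q' : Set G) ⊔ M = ⊤ := Sylow.normalizer_sup_eq_top Q
  have hrN : r ∣ Nat.card (Subgroup.normalizer (Q' : Set G)) := by
    have e : M.relIndex (Subgroup.normalizer (Q' : Set G)) = M.index := by
      rw [← Subgroup.relIndex_sup_right, hfr, Subgroup.relIndex_top_right]
    exact (e ▸ hrG).trans (Subgroup.relIndex_dvd_card _ _)
  obtain ⟨y, hy⟩ := exists_prime_orderOf_dvd_card' r hrN
  have hy' : orderOf y.1 = r := by rw [Subgroup.orderOf_coe, hy]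
  have hy1 : ∀ j, 0 < j → j < r → y.1 ^ j ≠ 1 := by
    intro j hj hjr h
    have := orderOf_dvd_of_pow_eq_one h
    rw [hy'] at this
    exact absurd (Nat.le_of_dvd hj this) (by omega)
  have hyr : y.1 ^ r = 1 := by rw [← hy', pow_orderOf_eq_one]
  have hQne : (Q : Subgroup M) ≠ ⊥ := Q.ne_bot_of_dvd_card hqM
  obtain ⟨x₀, hx₀, hx₀1⟩ : ∃ x₀ ∈ Q', x₀ ≠ 1 := by
    obtain ⟨x, hx⟩ := Subgroup.ne_bot_iff_exists_ne_one.mp hQne
    exact ⟨x.1.1, ⟨x.1, x.2, rfl⟩, fun h => hx (Subtype.ext (Subtype.ext h))⟩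
  have hQq : ∀ x ∈ Q', ∃ k, x ^ (q ^ k) = 1 := by
    rintro _ ⟨x, hx, rfl⟩
    obtain ⟨k, hk⟩ := Q.2 ⟨x, hx⟩
    refine ⟨k, ?_⟩
    have := congrArg (fun z : (Q : Subgroup M) => (z.1.1 : G)) hk
    simpa using this
  have hall : ∀ v : V, v = 1 := by
    apply frob_fixed (MulAut.conjNormal (H := V)) Q' y.1 r hr.pos hyr
    · intro x hx
      exact (Subgroup.mem_normalizer_iff.mp y.2 x).mp hx
    · intro v hv
      by_contra hv1
      have hc : Commute v.1 x₀ := by
        have := congrArg Subtype.val (hv x₀ hx₀)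
        rw [MulAut.conjNormal_apply] at this
        exact (mul_inv_eq_iff_eq_mul.mp this).symm
      obtain ⟨x, hx⟩ := exists_orderOf_mul hc hp hq hpq (hVp v) (fun h => hv1 (Subtype.ext h)) (hQq x₀ hx₀) hx₀1
      exact h1 x hx
    · intro v hv
      by_contra hv1
      have hc : Commute v.1 y.1 := by
        have := congrArg Subtype.val hv
        rw [MulAut.conjNormal_apply] at this
        exact (mul_inv_eq_iff_eq_mul.mp this).symm
      obtain ⟨x, hx⟩ := exists_orderOf_mul hc hp hr hpr (hVp v) (fun h => hv1 (Subtype.ext h))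
        ⟨1, by rw [pow_one]; exact hyr⟩ (by simpa using hy1 1 Nat.one_pos hr.one_lt)
      exact h2 x hx
    · intro j hj hjr x hx hc
      by_contra hx1
      obtain ⟨z, hz⟩ := exists_orderOf_mul (show Commute x (y.1 ^ j) from hc) hq hr hqr (hQq x hx) hx1
        ⟨1, by rw [pow_one, ← pow_mul, mul_comm, pow_mul, hyr, one_pow]⟩ (hy1 j hj hjr)
      exact h3 z hz
    · intro v hv
      obtain ⟨k, hk⟩ := hVp v
      have hk' : v ^ (p ^ k) = 1 := Subtype.ext hk
      have hcard : ∃ m, Nat.card Q' = q ^ m := by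
        have : IsPGroup q Q' := Q.2.map M.subtype
        exact this.exists_card_eq
      obtain ⟨m, hm⟩ := hcard
      rw [hm] at hv
      have hcop : Nat.Coprime (p ^ k) (q ^ m) :=
        Nat.Coprime.pow k m ((Nat.coprime_primes hp hq).mpr hpq)
      have := Nat.dvd_gcd (orderOf_dvd_of_pow_eq_one hk') (orderOf_dvd_of_pow_eq_one hv)
      rw [hcop.gcd_eq_one, Nat.dvd_one, orderOf_eq_one_iff] at this
      exact this
  -- but the centre of P is nontrivial
  haveI : Nontrivial P := (Subgroup.nontrivial_iff_ne_bot P).mpr hP1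
  haveI : Nontrivial (Subgroup.center P) := hP.center_nontrivial
  obtain ⟨z, hz⟩ := exists_ne (1 : Subgroup.center P)
  have := hall ⟨P.subtype z.1, z.1, z.2, rfl⟩
  apply hz
  apply Subtype.ext
  apply Subtype.ext
  exact congrArg (fun v : V => v.1) this

theorem relIndex_mul_card_of_le {G : Type*} [Group G] {K M : Subgroup G} (h : K ≤ M) :
    K.relIndex M * Nat.card K = Nat.card M := by
  have := (K.subgroupOf M).index_mul_card
  rwa [Nat.card_congr (Subgroup.subgroupOfEquivOfLe h).toEquiv] at this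

theorem three_primes {G : Type*} [Group G] [Finite G] (K M : Subgroup G) [K.Normal] [M.Normal] (hKM : K ≤ M)
    (p q r : ℕ) (hp : p.Prime) (hq : q.Prime) (hr : r.Prime) (hpq : p ≠ q) (hpr : p ≠ r) (hqr : q ≠ r)
    (hpK : p ∣ Nat.card K) (hqM : q ∣ K.relIndex M) (hrG : r ∣ M.index) :
    (∃ x : G, orderOf x = p * q) ∨ (∃ x : G, orderOf x = p * r) ∨ (∃ x : G, orderOf x = q * r) := by
  classical
  haveI := Fact.mk hp
  obtain ⟨P₀⟩ : Nonempty (Sylow p K) := inferInstance
  set P' : Subgroup G := (P₀ : Subgroup K).map K.subtype with hP'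
  have hfr : Subgroup.normalizer (P' : Set G) ⊔ K = ⊤ := Sylow.normalizer_sup_eq_top P₀
  set N : Subgroup G := Subgroup.normalizer (P' : Set G) with hN
  have hfrM : N ⊔ M = ⊤ := top_le_iff.mp (hfr ▸ sup_le_sup_left hKM N)
  haveI : (P'.subgroupOf N).Normal := Subgroup.normal_in_normalizer
  have hPp : IsPGroup p (P'.subgroupOf N) := (P₀.2.map K.subtype).comap_subtype
  have hP1 : P'.subgroupOf N ≠ ⊥ := by
    have hne : (P₀ : Subgroup K) ≠ ⊥ := P₀.ne_bot_of_dvd_card hpK
    obtain ⟨x, hx⟩ := Subgroup.ne_bot_iff_exists_ne_one.mp hne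
    have hxP : x.1.1 ∈ P' := ⟨x.1, x.2, rfl⟩
    intro h
    have h1 : (⟨x.1.1, Subgroup.le_normalizer hxP⟩ : N) ∈ P'.subgroupOf N := by
      rw [Subgroup.mem_subgroupOf]; exact hxP
    rw [h, Subgroup.mem_bot] at h1
    exact hx (Subtype.ext (Subtype.ext (congrArg (fun z : N => z.1) h1)))
  have hq' : q ∣ Nat.card (M.subgroupOf N) := by
    have e1 : (M ⊓ N) ⊔ K = M := by
      apply le_antisymm (sup_le inf_le_left hKM)
      intro m hm
      have hm' : m ∈ N ⊔ K := hfr ▸ Subgroup.mem_top m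
      rw [Subgroup.mem_sup_of_normal_right] at hm'
      obtain ⟨n, hn, k, hk, rfl⟩ := hm'
      have hnM : n ∈ M := by
        have := M.mul_mem hm (M.inv_mem (hKM hk))
        simpa using this
      exact Subgroup.mul_mem_sup ⟨hnM, hn⟩ hk
    have e2 : K.relIndex (M ⊓ N) = K.relIndex M := by
      rw [← Subgroup.relIndex_sup_right, e1]
    have e3 : Nat.card (M.subgroupOf N) = Nat.card (M ⊓ N : Subgroup G) := by
      rw [← Subgroup.inf_subgroupOf_right]
      exact Nat.card_congr (Subgroup.subgroupOfEquivOfLe inf_le_right).toEquiv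
    rw [e3]
    exact (e2 ▸ hqM).trans (Subgroup.relIndex_dvd_card _ _)
  have hr' : r ∣ (M.subgroupOf N).index := by
    show r ∣ M.relIndex N
    rw [← Subgroup.relIndex_sup_right, hfrM, Subgroup.relIndex_top_right]
    exact hrG
  rcases three_primes_normal (P'.subgroupOf N) (M.subgroupOf N) p q r hp hq hr hpq hpr hqr hPp hP1 hq' hr'
    with ⟨x, hx⟩ | ⟨x, hx⟩ | ⟨x, hx⟩
  · exact Or.inl ⟨x.1, by rw [Subgroup.orderOf_coe, hx]⟩
  · exact Or.inr (Or.inl ⟨x.1, by rw [Subgroup.orderOf_coe, hx]⟩)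
  · exact Or.inr (Or.inr ⟨x.1, by rw [Subgroup.orderOf_coe, hx]⟩)

end Cfsg.Agent.Lib.Helper19
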